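import Groth.Prelude.Def_W4c3degenlocivbPfaff
import Mathlib.RingTheory.MvPolynomial.Homogeneous
import Mathlib.Data.Nat.Factorial.Basic
import Mathlib.Tactic

/-!
# Coefficients of the apolarity action
-/

universe u

open MvPolynomial Finset

namespace Groth.Agent.DegLociLib

variable {k : Type u} [CommSemiring k] {m : ℕ}

/-- The derivative weight. -/
def weight (γ α : Fin m →₀ ℕ) : ℕ := ∏ i, Nat.descFactorial (α i + γ i) (α i)

theorem coeff_contract (D G : MvPolynomial (Fin m) k) (γ : Fin m →₀ ℕ) :
    coeff γ (W4c3degenlocivb.contract D G) =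
      ∑ α ∈ D.support, coeff α D * coeff (α + γ) G * (weight γ α : k) := by
  classical
  unfold W4c3degenlocivb.contract
  rw [coeff_sum]
  refine Finset.sum_congr rfl fun α _ => ?_
  rw [coeff_sum]
  have hterm : ∀ β ∈ G.support, coeff γ (if α ≤ β then monomial (β - α)
      (coeff α D * coeff β G * ((β.support.prod fun i => Nat.descFactorial (β i) (α i) : ℕ) : k)) else 0) =
      if β = α + γ then coeff α D * coeff (α + γ) G * (weight γ α : k) else 0 := by
    intro β _
    by_cases hle : α ≤ β
    · rw [if_pos hle, coeff_monomial]
      have hiff : β - α = γ ↔ β = α + γ := by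
        constructor
        · rintro rfl; exact (add_tsub_cancel_of_le hle).symm
        · rintro rfl; simp
      simp only [hiff]
      split_ifs with hb
      · subst hb
        congr 2
        rw [weight]
        refine Finset.prod_subset (Finset.subset_univ _) fun i _ hi => ?_
        have h0 : (α + γ) i = 0 := Finsupp.notMem_support_iff.mp hi
        simp only [Finsupp.add_apply] at h0
        have e1 : α i = 0 := by omega
        have e2 : γ i = 0 := by omega
        simp [e1, e2]
      · rfl
    · rw [if_neg hle, coeff_zero, if_neg (fun h : β = α + γ => hle (by rw [h]; exact le_self_add))]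
  rw [Finset.sum_congr rfl hterm, Finset.sum_ite_eq']
  split_ifs with h
  · rfl
  · simp [notMem_support_iff.mp h]

theorem weight_comm (a α : Fin m →₀ ℕ) :
    (∏ i, (a i).factorial) * weight a α = weight α a * weight 0 α := by
  simp only [weight, ← Finset.prod_mul_distrib]
  refine Finset.prod_congr rfl fun i _ => ?_
  have h1 := Nat.factorial_mul_descFactorial (show α i ≤ α i + a i by omega)
  have h2 := Nat.factorial_mul_descFactorial (show a i ≤ a i + α i by omega)
  rw [Nat.add_sub_cancel_left] at h1 h2
  rw [Finsupp.zero_apply, add_zero, Nat.descFactorial_self, mul_comm (Nat.descFactorial _ _) (α i).factorial,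
    h1, h2, add_comm]

theorem isHomogeneous_contract {D G : MvPolynomial (Fin m) k} {d e : ℕ} (hD : D.IsHomogeneous d)
    (hG : G.IsHomogeneous e) : (W4c3degenlocivb.contract D G).IsHomogeneous (e - d) := by
  intro γ hγ
  rw [coeff_contract] at hγ
  obtain ⟨α, -, hα⟩ := Finset.exists_ne_zero_of_sum_ne_zero hγ
  have h1 : coeff α D ≠ 0 := fun h => hα (by simp [h])
  have h2 : coeff (α + γ) G ≠ 0 := fun h => hα (by simp [h])
  have h1' := hD h1
  have h2' := hG h2
  rw [map_add] at h2'
  omega

theorem coeff_zero_contract_contract (D F : MvPolynomial (Fin m) k) (a : Fin m →₀ ℕ) :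
    coeff 0 (W4c3degenlocivb.contract D (W4c3degenlocivb.contract (monomial a 1) F)) =
      ((∏ i, (a i).factorial : ℕ) : k) * coeff a (W4c3degenlocivb.contract D F) := by
  classical
  rw [coeff_contract, coeff_contract, Finset.mul_sum]
  refine Finset.sum_congr rfl fun α _ => ?_
  rw [add_zero, coeff_contract]
  rw [Finset.sum_eq_single a (fun b _ hb => by simp [coeff_monomial, Ne.symm hb])
    (fun h => by simp [notMem_support_iff.mp h]), coeff_monomial, if_pos rfl, add_comm a α, one_mul]
  have := congrArg (fun n : ℕ => (n : k)) (weight_comm a α)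
  simp only [Nat.cast_mul] at this
  calc coeff α D * (coeff (α + a) F * (weight α a : k)) * (weight 0 α : k)
      = coeff α D * coeff (α + a) F * ((weight α a : k) * (weight 0 α : k)) := by ring
    _ = _ := by rw [← this]; ring

end Groth.Agent.DegLociLib
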